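import Mathlib.RingTheory.Flat.Basic
import Mathlib.LinearAlgebra.TensorProduct.Pi
import Mathlib.LinearAlgebra.TensorProduct.RightExactness
import Mathlib.RingTheory.Ideal.GoingUp
import Mathlib.RingTheory.Ideal.GoingDown
import Mathlib.RingTheory.Finiteness.Cardinality
import Mathlib.RingTheory.Localization.AtPrime.Basic
import Mathlib.RingTheory.AdicCompletion.Basic

/-! Small commutative algebra facts. -/

namespace Groth.Agent.CAlgMisc1

open TensorProduct

universe u

theorem map_ker_eq {R S : Type u} [CommRing R] [CommRing S] [Algebra R S] [Module.Flat R S]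
    {N : Type u} [AddCommGroup N] [Module R N] (f : R →ₗ[R] N) (s : S) :
    s ∈ Ideal.map (algebraMap R S) (LinearMap.ker f) ↔ s ⊗ₜ[R] f 1 = 0 := by
  have hex := Module.Flat.lTensor_exact (M := S) (LinearMap.exact_subtype_ker_map f)
  constructor
  · intro hs
    induction hs using Submodule.span_induction with
    | mem x hx =>
      obtain ⟨r, hr, rfl⟩ := hx
      rw [Algebra.algebraMap_eq_smul_one, TensorProduct.smul_tmul, ← map_smul, smul_eq_mul, mul_one,
        show f r = 0 from hr, tmul_zero]
    | zero => exact zero_tmul _ _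
    | add x y _ _ hx hy => rw [add_tmul, hx, hy, add_zero]
    | smul a x _ hx =>
      rw [smul_eq_mul, ← smul_eq_mul, ← TensorProduct.smul_tmul', hx, smul_zero]
  · intro hs
    obtain ⟨w, hw⟩ := (hex (s ⊗ₜ (1 : R))).1 (by simpa using hs)
    have h2 : ∀ w : S ⊗[R] LinearMap.ker f, TensorProduct.rid R S
        ((LinearMap.ker f).subtype.lTensor S w) ∈ Ideal.map (algebraMap R S) (LinearMap.ker f) := by
      intro w
      induction w with
      | zero => simp
      | tmul a r =>
        simp only [LinearMap.lTensor_tmul, Submodule.subtype_apply, TensorProduct.rid_tmul,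
          Algebra.smul_def]
        exact Ideal.mul_mem_right _ _ (Ideal.mem_map_of_mem _ r.2)
      | add x y hx hy => rw [map_add, map_add]; exact add_mem hx hy
    have := h2 w
    rwa [hw, TensorProduct.rid_tmul, one_smul] at this

theorem map_annihilator_singleton {R S : Type u} [CommRing R] [CommRing S] [Algebra R S]
    [Module.Flat R S] {M : Type u} [AddCommGroup M] [Module R M] (m : M) :
    ((Submodule.span R {m}).annihilator).map (algebraMap R S) =
      (Submodule.span S {(1 : S) ⊗ₜ[R] m}).annihilator := by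
  ext s
  rw [Submodule.mem_annihilator_span_singleton, TensorProduct.smul_tmul', smul_eq_mul, mul_one]
  have : (Submodule.span R {m}).annihilator = LinearMap.ker (LinearMap.toSpanSingleton R M m) := by
    ext r
    simp [Submodule.mem_annihilator_span_singleton]
  rw [this, map_ker_eq, LinearMap.toSpanSingleton_apply, one_smul]

theorem map_annihilator {R S : Type u} [CommRing R] [CommRing S] [Algebra R S] [Module.Flat R S]
    (M : Type u) [AddCommGroup M] [Module R M] [Module.Finite R M] :
    (Module.annihilator R M).map (algebraMap R S) = Module.annihilator S (S ⊗[R] M) := by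
  classical
  obtain ⟨n, v, hv⟩ := Module.Finite.exists_fin (R := R) (M := M)
  let f : R →ₗ[R] (Fin n → M) := LinearMap.pi fun i => LinearMap.toSpanSingleton R M (v i)
  have hf : (LinearMap.ker f : Ideal R) = Module.annihilator R M := by
    rw [← Submodule.annihilator_top, ← hv]
    ext r
    simp [f, Submodule.mem_annihilator_span, LinearMap.ker_pi]
  have hspan : Submodule.span S (Set.range fun i => (1 : S) ⊗ₜ[R] v i) = ⊤ := by
    refine top_unique fun x hx => ?_
    clear hx
    induction x with
    | zero => exact zero_mem _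
    | tmul a m =>
      rw [show a ⊗ₜ[R] m = a • ((1 : S) ⊗ₜ[R] m) by simp [TensorProduct.smul_tmul']]
      refine Submodule.smul_mem _ a ?_
      have hm : m ∈ Submodule.span R (Set.range v) := hv ▸ Submodule.mem_top
      have := Submodule.mem_map_of_mem (f := TensorProduct.mk R S M 1) hm
      rw [Submodule.map_span, ← Set.range_comp] at this
      exact Submodule.span_le_restrictScalars R S _ this
    | add x y hx hy => exact add_mem hx hy
  ext s
  rw [← hf, map_ker_eq, ← Submodule.annihilator_top, ← hspan,
    Submodule.mem_annihilator_span, ← (TensorProduct.piRight R R S (fun _ : Fin n => M)).map_eq_zero_iff,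
    funext_iff]
  simp [f, TensorProduct.smul_tmul']

theorem isLocalization_atPrime_of_forall_le {R S : Type u} [CommRing R] [CommRing S] [Algebra R S]
    (p : Ideal R) [p.IsPrime] (q : Ideal S) [q.IsPrime] [q.LiesOver p]
    (h : ∀ Q : Ideal S, Q.IsPrime → Q.under R ≤ p → Q ≤ q) :
    IsLocalization.AtPrime (Localization (Algebra.algebraMapSubmonoid S p.primeCompl)) q := by
  refine IsLocalization.isLocalization_of_is_exists_mul_mem _ (Algebra.algebraMapSubmonoid S p.primeCompl) q.primeCompl ?_ ?_
  · rintro _ ⟨r, hr, rfl⟩ hmem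
    exact hr ((Ideal.mem_of_liesOver q p r).2 hmem)
  · rintro ⟨s, hs⟩
    by_contra hne
    push Not at hne
    have hdisj : Disjoint (Algebra.algebraMapSubmonoid S p.primeCompl : Set S) (Ideal.span {s} : Set S) := by
      rw [Set.disjoint_left]
      intro x hx hxs
      obtain ⟨c, rfl⟩ := Ideal.mem_span_singleton'.1 hxs
      exact hne c hx
    obtain ⟨Q, hQ, hsQ, hQd⟩ := Ideal.exists_le_prime_disjoint _ _ hdisj.symm
    refine hs (h Q hQ (fun r hr => ?_) (hsQ (Ideal.mem_span_singleton_self s)))
    by_contra hrp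
    exact Set.disjoint_left.1 hQd hr ⟨r, hrp, rfl⟩

theorem exists_sum_of_mem_smul {A M : Type u} [CommRing A] [AddCommGroup M] [Module A M]
    {ι : Type} [Fintype ι] (g : ι → A) (N : Submodule A M) :
    ∀ x ∈ Ideal.span (Set.range g) • N, ∃ y : ι → M, (∀ i, y i ∈ N) ∧ ∑ i, g i • y i = x := by
  intro x hx
  refine Submodule.smul_induction_on
    (p := fun x => ∃ y : ι → M, (∀ i, y i ∈ N) ∧ ∑ i, g i • y i = x) hx (fun r hr n hn => ?_) ?_
  · obtain ⟨c, rfl⟩ := (Ideal.mem_span_range_iff_exists_fun).1 hr
    exact ⟨fun i => c i • n, fun i => N.smul_mem _ hn, by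
      simp only [Finset.sum_smul, smul_smul, mul_comm]⟩
  · rintro a b ⟨y, hy, rfl⟩ ⟨z, hz, rfl⟩
    exact ⟨y + z, fun i => N.add_mem (hy i) (hz i), by simp [Finset.sum_add_distrib]⟩

theorem isAdicComplete_of_le {A : Type u} [CommRing A] (I J : Ideal A) (hIJ : I ≤ J) (hI : I.FG)
    (M : Type u) [AddCommGroup M] [Module A M] [IsAdicComplete J M] : IsAdicComplete I M where
  haus' x hx := IsHausdorff.haus ‹IsAdicComplete J M›.toIsHausdorff x fun n =>
    SModEq.sub_mem.2 (Submodule.smul_mono_left (Ideal.pow_right_mono hIJ n) (SModEq.sub_mem.1 (hx n)))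
  prec' f hf := by
    have hle : ∀ n, I ^ n • (⊤ : Submodule A M) ≤ J ^ n • ⊤ := fun n =>
      Submodule.smul_mono_left (Ideal.pow_right_mono hIJ n)
    obtain ⟨L, hL⟩ := IsPrecomplete.prec ‹IsAdicComplete J M›.toIsPrecomplete
      (f := f) fun {m n} hmn => SModEq.sub_mem.2 (hle m (SModEq.sub_mem.1 (hf hmn)))
    refine ⟨L, fun n => SModEq.sub_mem.2 ?_⟩
    obtain ⟨r, g, hg⟩ := Submodule.fg_iff_exists_fin_generating_family.1 (Submodule.FG.pow hI n)
    have hstep : ∀ k, f (n + (k + 1)) - f (n + k) ∈ Ideal.span (Set.range g) • (I ^ k • ⊤ : Submodule A M) := by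
      intro k
      rw [show Ideal.span (Set.range g) = I ^ n from hg, ← Submodule.mul_smul, ← pow_add]
      rw [← neg_mem_iff, neg_sub]
      exact SModEq.sub_mem.1 (hf (by omega))
    choose y hy hy' using fun k => exists_sum_of_mem_smul g _ _ (hstep k)
    have hY : ∀ i, ∃ Y : M, ∀ k, (∑ j ∈ Finset.range k, y j i) - Y ∈ J ^ k • (⊤ : Submodule A M) := by
      intro i
      obtain ⟨Y, hY⟩ := IsPrecomplete.prec ‹IsAdicComplete J M›.toIsPrecomplete
        (f := fun k => ∑ j ∈ Finset.range k, y j i) fun {a b} hab => SModEq.sub_mem.2 (by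
          rw [← neg_mem_iff, neg_sub, ← Finset.sum_Ico_eq_sub _ hab]
          exact Submodule.sum_mem _ fun j hj => Submodule.smul_mono_left
            (Ideal.pow_le_pow_right (Finset.mem_Ico.1 hj).1) (hle j (hy j i)))
      exact ⟨Y, fun k => SModEq.sub_mem.1 (hY k)⟩
    choose Y hY using hY
    have htel : ∀ k, ∑ i, g i • ∑ j ∈ Finset.range k, y j i = f (n + k) - f n := by
      intro k
      simp only [Finset.smul_sum]
      rw [Finset.sum_comm]
      simp only [hy']
      exact Finset.sum_range_sub (fun k => f (n + k)) k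
    have hzero : (L - f n) - ∑ i, g i • Y i = 0 := by
      refine IsHausdorff.haus ‹IsAdicComplete J M›.toIsHausdorff _ fun k => SModEq.sub_mem.2 ?_
      rw [sub_zero]
      have h1 : f (n + k) - L ∈ J ^ k • (⊤ : Submodule A M) :=
        Submodule.smul_mono_left (Ideal.pow_le_pow_right (by omega)) (SModEq.sub_mem.1 (hL (n + k)))
      have h2 : ∑ i, g i • ((∑ j ∈ Finset.range k, y j i) - Y i) ∈ J ^ k • (⊤ : Submodule A M) :=
        Submodule.sum_mem _ fun i _ => Submodule.smul_mem _ _ (hY i k)
      have := sub_mem h2 h1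
      simp only [smul_sub, Finset.sum_sub_distrib, htel] at this
      convert this using 1
      abel
    rw [← neg_mem_iff, neg_sub, sub_eq_zero.1 hzero]
    refine Submodule.sum_mem _ fun i _ => Submodule.smul_mem_smul ?_ trivial
    rw [← hg]
    exact Submodule.subset_span ⟨i, rfl⟩

end Groth.Agent.CAlgMisc1
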