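import Mathlib.Algebra.Module.LocalizedModule.Basic
import Mathlib.Algebra.Module.FinitePresentation
import Mathlib.RingTheory.Spectrum.Prime.Topology
import Mathlib.RingTheory.Ideal.AssociatedPrime.Basic
import Mathlib.RingTheory.Nakayama
import Mathlib.RingTheory.Idempotents
import Mathlib.RingTheory.Flat.Equalizer
import Mathlib.LinearAlgebra.TensorProduct.Quotient
import Mathlib.Algebra.Module.Projective

/-! Bijectivity after localisation, lifting of projectives. -/

namespace Groth.Agent.CAlgMisc1

open TensorProduct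

universe u

variable {R : Type u} [CommRing R] {M N : Type u} [AddCommGroup M] [Module R M] [AddCommGroup N]
  [Module R N]

theorem injective_map_iff (S : Submonoid R) (φ : M →ₗ[R] N) :
    Function.Injective (LocalizedModule.map S φ) ↔ ∀ m, φ m = 0 → ∃ s ∈ S, s • m = 0 := by
  constructor
  · intro h m hm
    have h0 : LocalizedModule.mkLinearMap S M m = 0 := h (by
      rw [map_zero]
      show LocalizedModule.map S φ (LocalizedModule.mk m 1) = 0
      rw [LocalizedModule.map_mk, hm, LocalizedModule.zero_mk])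
    obtain ⟨s, hs⟩ := (IsLocalizedModule.eq_zero_iff S (LocalizedModule.mkLinearMap S M)).1 h0
    exact ⟨s, s.2, hs⟩
  · intro h
    rw [injective_iff_map_eq_zero]
    intro x hx
    induction x using LocalizedModule.induction_on with
    | _ m s =>
      rw [LocalizedModule.map_mk, ← LocalizedModule.zero_mk s, LocalizedModule.mk_eq] at hx
      obtain ⟨u, hu⟩ := hx
      simp only [smul_zero, Submonoid.smul_def, ← map_smul] at hu
      obtain ⟨t, ht, htm⟩ := h _ hu
      rw [← LocalizedModule.zero_mk s, LocalizedModule.mk_eq]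
      refine ⟨⟨t, ht⟩ * u, ?_⟩
      simp only [smul_zero, Submonoid.smul_def, Submonoid.coe_mul, mul_smul]
      simpa [smul_comm (u : R)] using htm

theorem surjective_map_iff (S : Submonoid R) (φ : M →ₗ[R] N) :
    Function.Surjective (LocalizedModule.map S φ) ↔ ∀ n, ∃ s ∈ S, ∃ m, φ m = s • n := by
  constructor
  · intro h n
    obtain ⟨x, hx⟩ := h (LocalizedModule.mk n 1)
    induction x using LocalizedModule.induction_on with
    | _ m s =>
      rw [LocalizedModule.map_mk, LocalizedModule.mk_eq] at hx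
      obtain ⟨u, hu⟩ := hx
      simp only [Submonoid.smul_def, Submonoid.coe_one, one_smul, ← mul_smul] at hu
      exact ⟨(u : R) * s, mul_mem u.2 s.2, (u : R) • m, by rw [map_smul, hu]⟩
  · intro h x
    induction x using LocalizedModule.induction_on with
    | _ n t =>
      obtain ⟨s, hs, m, hm⟩ := h n
      refine ⟨LocalizedModule.mk m (⟨s, hs⟩ * t), ?_⟩
      rw [LocalizedModule.map_mk, LocalizedModule.mk_eq]
      exact ⟨1, by simp [Submonoid.smul_def, hm, mul_smul, smul_comm (t : R)]⟩

theorem isOpen_bijective_map [Module.Finite R M] [Module.FinitePresentation R N] (φ : M →ₗ[R] N) :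
    IsOpen {p : PrimeSpectrum R | Function.Bijective (LocalizedModule.map p.asIdeal.primeCompl φ)} := by
  refine isOpen_iff_forall_mem_open.2 fun p hp => ?_
  obtain ⟨r, hr, hrb⟩ := exists_bijective_map_powers p.asIdeal.primeCompl
    (LocalizedModule.mkLinearMap _ M) (LocalizedModule.mkLinearMap _ N) φ hp
  obtain ⟨hi, hs⟩ := hrb r dvd_rfl
  refine ⟨PrimeSpectrum.basicOpen r, fun q hq => ⟨?_, ?_⟩, PrimeSpectrum.isOpen_basicOpen, hr⟩
  · refine (injective_map_iff _ φ).2 fun m hm => ?_
    obtain ⟨s, ⟨k, rfl⟩, hsm⟩ := (injective_map_iff _ φ).1 hi m hm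
    exact ⟨_, pow_mem (show r ∈ q.asIdeal.primeCompl from hq) k, hsm⟩
  · refine (surjective_map_iff _ φ).2 fun n => ?_
    obtain ⟨s, ⟨k, rfl⟩, m, hm⟩ := (surjective_map_iff _ φ).1 hs n
    exact ⟨_, pow_mem (show r ∈ q.asIdeal.primeCompl from hq) k, m, hm⟩

theorem injective_of_associatedPrimes [IsNoetherianRing R] (φ : M →ₗ[R] N)
    (h : ∀ (p : Ideal R) [p.IsPrime],
      Function.Injective (LocalizedModule.map p.primeCompl φ) ∨ p ∉ associatedPrimes R M) :
    Function.Injective φ := by
  rw [injective_iff_map_eq_zero]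
  intro x hx
  by_contra hne
  have hne' : (⟨x, hx⟩ : LinearMap.ker φ) ≠ 0 := fun h => hne (congrArg Subtype.val h)
  obtain ⟨p, hp, -⟩ := exists_le_isAssociatedPrime_of_isNoetherianRing R (⟨x, hx⟩ : LinearMap.ker φ) hne'
  have : p.IsPrime := hp.1
  obtain ⟨-, y, hy⟩ := isAssociatedPrime_iff.1 hp
  have hpM : p ∈ associatedPrimes R M :=
    associatedPrimes.subset_of_injective (LinearMap.ker φ).injective_subtype hp
  obtain ⟨s, hs, hsy⟩ := (injective_map_iff _ φ).1 ((h p).resolve_right (not_not_intro hpM)) y.1 y.2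
  exact hs (hy ▸ Submodule.mem_colon_singleton.2 ((Submodule.mem_bot R).2 (Subtype.ext hsy)))

theorem pow_smul_top_le_of_le_smul {I : Ideal R} (K : Submodule R M) (h : K ≤ I • K) :
    ∀ n : ℕ, K ≤ I ^ n • (⊤ : Submodule R M) := by
  intro n
  induction n with
  | zero => simp
  | succ n ih =>
    rw [pow_succ', Submodule.mul_smul]
    exact h.trans (Submodule.smul_mono le_rfl ih)

theorem projective_of_flat_of_nilpotent (I : Ideal R) (hI : IsNilpotent I) (M : Type u) [AddCommGroup M]
    [Module R M] [Module.Flat R M] (hproj : Module.Projective (R ⧸ I) ((R ⧸ I) ⊗[R] M)) :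
    Module.Projective R M := by
  obtain ⟨n, hn⟩ := hI
  let π : (M →₀ R) →ₗ[R] M := Finsupp.linearCombination R id
  have hπ : Function.Surjective π := Finsupp.linearCombination_id_surjective R M
  obtain ⟨s, hs⟩ := Module.projective_lifting_property (π.baseChange (R ⧸ I)) LinearMap.id
    (by rw [LinearMap.baseChange_eq_ltensor]; exact LinearMap.lTensor_surjective _ hπ)
  let qF : (M →₀ R) →ₗ[R] (M →₀ R) ⧸ (I • ⊤ : Submodule R (M →₀ R)) := Submodule.mkQ _
  let θ : ((R ⧸ I) ⊗[R] (M →₀ R)) ≃ₗ[R] (M →₀ R) ⧸ (I • ⊤ : Submodule R (M →₀ R)) := quotTensorEquivQuotSMul (M →₀ R) I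
  let σ : M →ₗ[R] (M →₀ R) ⧸ (I • ⊤ : Submodule R (M →₀ R)) :=
    θ.toLinearMap ∘ₗ s.restrictScalars R ∘ₗ TensorProduct.mk R (R ⧸ I) M 1
  have hIF : ∀ z ∈ (I • ⊤ : Submodule R (M →₀ R)), σ (π z) = 0 := fun z hz => by
    refine Submodule.smul_induction_on (p := fun z => σ (π z) = 0) hz (fun i hi w _ => ?_)
      (fun a b ha hb => by rw [map_add, map_add, ha, hb, add_zero])
    rw [map_smul, map_smul]
    obtain ⟨v, hv⟩ := Submodule.Quotient.mk_surjective _ (σ (π w))
    rw [← hv, ← Submodule.Quotient.mk_smul, Submodule.Quotient.mk_eq_zero]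
    exact Submodule.smul_mem_smul hi trivial
  have hσ : ∀ m z, qF z = σ m → π z - m ∈ (I • ⊤ : Submodule R M) := by
    intro m z hz
    have h1 := congrArg θ.symm hz
    simp only [σ, LinearMap.comp_apply, LinearEquiv.coe_coe, LinearEquiv.symm_apply_apply,
      LinearMap.coe_restrictScalars, TensorProduct.mk_apply] at h1
    rw [show θ.symm (qF z) = (1 : R ⧸ I) ⊗ₜ z from quotTensorEquivQuotSMul_symm_mk I z] at h1
    have h2 := congrArg (π.baseChange (R ⧸ I)) h1
    rw [LinearMap.baseChange_tmul, ← LinearMap.comp_apply, hs, LinearMap.id_apply] at h2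
    rw [← Submodule.Quotient.eq]
    have h3 := congrArg (quotTensorEquivQuotSMul M I) h2
    rwa [← map_one (Ideal.Quotient.mk I), quotTensorEquivQuotSMul_mk_tmul,
      quotTensorEquivQuotSMul_mk_tmul, one_smul, one_smul] at h3
  -- lift the idempotent `σ ∘ π`
  let red : Module.End R (M →₀ R) →+* Module.End R ((M →₀ R) ⧸ (I • ⊤ : Submodule R (M →₀ R))) :=
    { toFun := fun g => Submodule.mapQ _ _ g (Submodule.map_le_iff_le_comap.1 (by
        rw [Submodule.map_smul'']; exact Submodule.smul_mono le_rfl le_top))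
      map_one' := by ext; rfl
      map_mul' := fun _ _ => by ext; rfl
      map_zero' := by ext; rfl
      map_add' := fun _ _ => by ext; rfl }
  let eb : Module.End R ((M →₀ R) ⧸ (I • ⊤ : Submodule R (M →₀ R))) := Submodule.liftQ _ (σ ∘ₗ π) hIF
  obtain ⟨e₀, he₀⟩ := Module.projective_lifting_property qF (σ ∘ₗ π) (Submodule.mkQ_surjective _)
  have heb : red e₀ = eb := by
    refine Submodule.linearMap_qext _ ?_
    exact he₀
  have hσπ : ∀ m z, qF z = σ m → σ (π z) = σ m := fun m z hz => by
    rw [← sub_eq_zero, ← map_sub]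
    obtain ⟨w, hw⟩ := hπ (π z - m)
    have hmem : π z - m ∈ Submodule.map π (I • ⊤ : Submodule R (M →₀ R)) := by
      rw [Submodule.map_smul'', Submodule.map_top, LinearMap.range_eq_top.2 hπ]
      exact hσ m z hz
    obtain ⟨v, hv, hv'⟩ := hmem
    rw [← hv']
    exact hIF v hv
  have hidem : IsIdempotentElem eb := by
    refine Submodule.linearMap_qext _ (LinearMap.ext fun z => ?_)
    obtain ⟨w, hw⟩ := Submodule.mkQ_surjective (I • ⊤ : Submodule R (M →₀ R)) (σ (π z))
    show eb (eb (qF z)) = σ (π z)
    rw [show eb (qF z) = σ (π z) from rfl, ← hw]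
    exact (hσπ _ w hw).trans hw.symm
  obtain ⟨e, he, heq⟩ := exists_isIdempotentElem_eq_of_ker_isNilpotent red (fun g hg => ⟨n, by
    have hg' : ∀ z, g z ∈ (I • ⊤ : Submodule R (M →₀ R)) := fun z => by
      have := LinearMap.congr_fun hg (Submodule.Quotient.mk z)
      exact (Submodule.Quotient.mk_eq_zero _).1 this
    have : ∀ k, ∀ z, (g ^ k) z ∈ I ^ k • (⊤ : Submodule R (M →₀ R)) := by
      intro k
      induction k with
      | zero => simp
      | succ k ih =>
        intro z
        rw [pow_succ' g, Module.End.mul_apply, pow_succ I, Submodule.mul_smul]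
        have := Submodule.mem_map_of_mem (f := g) (ih z)
        rw [Submodule.map_smul''] at this
        refine Submodule.smul_mono le_rfl ?_ this
        rintro _ ⟨v, -, rfl⟩
        exact hg' v
    refine LinearMap.ext fun z => ?_
    simpa [hn] using this n z⟩) eb ⟨e₀, heb⟩ hidem
  let P : Submodule R (M →₀ R) := LinearMap.range e
  have hP : Module.Projective R P := Module.Projective.of_split P.subtype e.rangeRestrict
    (LinearMap.ext fun ⟨z, w, hw⟩ => Subtype.ext (by
      show e z = z
      rw [← hw, ← Module.End.mul_apply, he.eq]))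
  let _ : AddCommGroup P := Submodule.addCommGroup P
  let p : P →ₗ[R] M := π ∘ₗ P.subtype
  have hsurj : Function.Surjective p := by
    rw [← LinearMap.range_eq_top, eq_top_iff]
    have hstep : ∀ k, (⊤ : Submodule R M) ≤ LinearMap.range p ⊔ I ^ k • ⊤ := by
      intro k
      induction k with
      | zero => simp
      | succ k ih =>
        have h1 : (⊤ : Submodule R M) ≤ LinearMap.range p ⊔ I • ⊤ := fun m _ => by
          obtain ⟨z, rfl⟩ := hπ m
          have h2 : qF (e z) = σ (π z) := LinearMap.congr_fun heq (qF z)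
          rw [show π z = p ⟨e z, z, rfl⟩ + -(π (e z) - π z) by simp [p]]
          exact Submodule.add_mem_sup ⟨_, rfl⟩ (neg_mem (hσ _ _ h2))
        refine h1.trans (sup_le le_sup_left ?_)
        calc I • (⊤ : Submodule R M) ≤ I • (LinearMap.range p ⊔ I ^ k • ⊤) := Submodule.smul_mono le_rfl ih
          _ ≤ _ := by
            rw [Submodule.smul_sup, ← Submodule.mul_smul, ← pow_succ']
            exact sup_le_sup_right Submodule.smul_le_right _
    simpa [hn] using hstep n
  have hinj : Function.Injective p := by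
    suffices hbot : LinearMap.ker p = ⊥ from
      (injective_iff_map_eq_zero p).2 fun z hz => (Submodule.mem_bot R).1 (hbot ▸ (hz : z ∈ LinearMap.ker p))
    have hK : LinearMap.ker p ≤ I • LinearMap.ker p := by
      intro z hz
      have h1 : (z : (M →₀ R)) ∈ (I • ⊤ : Submodule R (M →₀ R)) := by
        obtain ⟨w, hw⟩ := z.2
        have hz1 : e (z : (M →₀ R)) = (z : (M →₀ R)) := by rw [← hw, ← Module.End.mul_apply, he.eq]
        rw [← Submodule.Quotient.mk_eq_zero, ← hz1]
        exact (LinearMap.congr_fun heq (qF z.1)).trans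
          ((congrArg σ (show π z.1 = 0 from hz)).trans (map_zero σ))
      have h2 : z ∈ (I • ⊤ : Submodule R P) := by
        have := Submodule.mem_map_of_mem (f := e.rangeRestrict) h1
        rw [Submodule.map_smul''] at this
        obtain ⟨w, hw⟩ := z.2
        have hz1 : e.rangeRestrict (z : (M →₀ R)) = z := Subtype.ext (by
          show e (z : (M →₀ R)) = z
          rw [← hw, ← Module.End.mul_apply, he.eq])
        rw [hz1] at this
        exact Submodule.smul_mono le_rfl le_top this
      have hflat : Module.Flat R (P ⧸ LinearMap.ker p) :=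
        Module.Flat.of_linearEquiv (p.quotKerEquivOfSurjective hsurj)
      have hinj2 := LinearMap.lTensor_injective_of_exact_of_flat (LinearMap.ker p).mkQ
        (Submodule.mkQ_surjective _) (LinearMap.ker p).subtype (Submodule.injective_subtype _)
        (LinearMap.exact_subtype_mkQ _) (R ⧸ I)
      have h3 : (1 : R ⧸ I) ⊗ₜ[R] (⟨z, hz⟩ : LinearMap.ker p) = 0 := by
        apply hinj2
        rw [LinearMap.lTensor_tmul, map_zero]
        apply (quotTensorEquivQuotSMul P I).injective
        rw [map_zero, ← map_one (Ideal.Quotient.mk I), quotTensorEquivQuotSMul_mk_tmul, one_smul,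
          Submodule.Quotient.mk_eq_zero]
        exact h2
      have h4 := congrArg (quotTensorEquivQuotSMul (LinearMap.ker p) I) h3
      rw [map_zero, ← map_one (Ideal.Quotient.mk I), quotTensorEquivQuotSMul_mk_tmul, one_smul,
        Submodule.Quotient.mk_eq_zero] at h4
      have h5 := Submodule.mem_map_of_mem (f := (LinearMap.ker p).subtype) h4
      rwa [Submodule.map_smul'', Submodule.map_top, Submodule.range_subtype] at h5
    simpa [hn] using pow_smul_top_le_of_le_smul _ hK n
  exact Module.Projective.of_equiv (LinearEquiv.ofBijective p ⟨hinj, hsurj⟩)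

theorem bijective_of_baseChange_bijective (I : Ideal R) (hI : I ≤ Ideal.jacobson (⊥ : Ideal R))
    [Module.Finite R M] [Module.Finite R N] [Module.Projective R N] (φ : M →ₗ[R] N)
    (h : Function.Bijective (φ.baseChange (R ⧸ I))) : Function.Bijective φ := by
  have key : ∀ {X : Type u} [AddCommGroup X] [Module R X] (x : X),
      (1 : R ⧸ I) ⊗ₜ[R] x = 0 → x ∈ (I • ⊤ : Submodule R X) := fun {X} _ _ x hx => by
    have := congrArg (quotTensorEquivQuotSMul X I) hx
    rwa [map_zero, ← map_one (Ideal.Quotient.mk I), quotTensorEquivQuotSMul_mk_tmul, one_smul,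
      Submodule.Quotient.mk_eq_zero] at this
  have hsurj : Function.Surjective φ := by
    rw [← LinearMap.range_eq_top, eq_top_iff]
    refine Submodule.le_of_le_smul_of_le_jacobson_bot Module.Finite.fg_top hI fun n _ => ?_
    obtain ⟨x, hx⟩ := h.2 ((1 : R ⧸ I) ⊗ₜ n)
    obtain ⟨m, rfl⟩ : ∃ m, (1 : R ⧸ I) ⊗ₜ[R] m = x := by
      obtain ⟨m, hm⟩ := Submodule.Quotient.mk_surjective _ (quotTensorEquivQuotSMul M I x)
      refine ⟨m, (quotTensorEquivQuotSMul M I).injective ?_⟩
      rw [← map_one (Ideal.Quotient.mk I), quotTensorEquivQuotSMul_mk_tmul, one_smul, hm]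
    rw [LinearMap.baseChange_tmul] at hx
    rw [show n = φ m + (n - φ m) by abel]
    exact Submodule.add_mem_sup ⟨m, rfl⟩ (key _ (by rw [tmul_sub, hx, sub_self]))
  obtain ⟨s, hs⟩ := Module.projective_lifting_property φ LinearMap.id hsurj
  let h' : M →ₗ[R] M := LinearMap.id - s ∘ₗ φ
  have hs' : ∀ n, φ (s n) = n := fun n => LinearMap.congr_fun hs n
  have hrange : LinearMap.range h' = LinearMap.ker φ := by
    refine le_antisymm ?_ fun x hx => ⟨x, ?_⟩
    · rintro _ ⟨x, rfl⟩
      show φ (h' x) = 0
      simp [h', hs']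
    · simp [h', show φ x = 0 from hx]
  refine ⟨LinearMap.ker_eq_bot.1 (Submodule.eq_bot_of_le_smul_of_le_jacobson_bot I _ ?_ ?_ hI), hsurj⟩
  · rw [← hrange, LinearMap.range_eq_map]; exact Module.Finite.fg_top.map h'
  · intro x hx
    have h2 : x ∈ (I • ⊤ : Submodule R M) := key x (h.1 (by
      rw [LinearMap.baseChange_tmul, show φ x = 0 from hx, tmul_zero, map_zero]))
    have h3 := Submodule.mem_map_of_mem (f := h') h2
    rw [Submodule.map_smul'', Submodule.map_top, hrange,
      show h' x = x by simp [h', show φ x = 0 from hx]] at h3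
    exact h3

end Groth.Agent.CAlgMisc1
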