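import Groth.Agent.CAlgMisc1.Swindle
import Groth.Agent.CAlgMisc1.Local
import Mathlib.Algebra.Algebra.Epi
import Mathlib.LinearAlgebra.Contraction
import Mathlib.RingTheory.Flat.FaithfullyFlat.Algebra
import Mathlib.RingTheory.Ideal.MinimalPrime.Localization
import Mathlib.RingTheory.Ideal.Quotient.Basic
import Mathlib.RingTheory.Ideal.Quotient.Operations
import Mathlib.RingTheory.LocalRing.ResidueField.Fiber
import Mathlib.RingTheory.Noetherian.Defs
import Mathlib.RingTheory.Ideal.Maps
import Mathlib.Algebra.Module.Projective
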