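import Mathlib.RingTheory.Flat.Basic
import Mathlib.RingTheory.Flat.Stability
import Mathlib.LinearAlgebra.TensorProduct.Quotient
import Mathlib.LinearAlgebra.TensorProduct.Prod
import Mathlib.Algebra.Module.Projective
import Mathlib.LinearAlgebra.Isomorphisms

/-! Projectivity modulo two ideals, and intersections of flat modules. -/

namespace Groth.Agent.CAlgMisc1

open TensorProduct

universe u v

variable {R : Type u} [CommRing R]

theorem inf_smul_top_eq {M : Type v} [AddCommGroup M] [Module R M] [Module.Flat R M] (I J : Ideal R) :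
    (I • (⊤ : Submodule R M)) ⊓ (J • ⊤) = (I ⊓ J) • (⊤ : Submodule R M) := by
  refine le_antisymm (fun x hx => ?_) (le_inf (Submodule.smul_mono_left inf_le_left)
    (Submodule.smul_mono_left inf_le_right))
  let f : (R ⧸ (I ⊓ J)) →ₗ[R] (R ⧸ I) × (R ⧸ J) :=
    Submodule.liftQ (I ⊓ J) (I.mkQ.prod J.mkQ) (le_of_eq (by simp))
  have hf : Function.Injective f := by
    rw [← LinearMap.ker_eq_bot, Submodule.ker_liftQ_eq_bot _ _ _ (le_of_eq (by simp))]
  have h0 : (1 : R ⧸ (I ⊓ J)) ⊗ₜ[R] x = 0 := by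
    apply Module.Flat.rTensor_preserves_injective_linearMap (M := M) f hf
    apply (TensorProduct.prodLeft R R (R ⧸ I) (R ⧸ J) M).injective
    rw [map_zero, map_zero, LinearMap.rTensor_tmul]
    have h1 : ∀ K : Ideal R, x ∈ K • (⊤ : Submodule R M) → (1 : R ⧸ K) ⊗ₜ[R] x = 0 := fun K hK => by
      apply (TensorProduct.quotTensorEquivQuotSMul M K).injective
      rw [map_zero, ← map_one (Ideal.Quotient.mk K), TensorProduct.quotTensorEquivQuotSMul_mk_tmul,
        one_smul, Submodule.Quotient.mk_eq_zero]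
      exact hK
    have : f 1 = (1, 1) := rfl
    rw [this, TensorProduct.prodLeft_tmul, h1 I hx.1, h1 J hx.2]
    rfl
  have := congrArg (TensorProduct.quotTensorEquivQuotSMul M (I ⊓ J)) h0
  rwa [map_zero, ← map_one (Ideal.Quotient.mk _), TensorProduct.quotTensorEquivQuotSMul_mk_tmul,
    one_smul, Submodule.Quotient.mk_eq_zero] at this

/-- A module projective modulo `I` has the lifting property for modules killed by `I`. -/
theorem exists_lift_of_projective_quot (I : Ideal R) {P : Type u} [AddCommGroup P] [Module R P]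
    (hP : Module.Projective (R ⧸ I) ((R ⧸ I) ⊗[R] P)) {A B : Type u} [AddCommGroup A] [Module R A]
    [AddCommGroup B] [Module R B] (hA : ∀ i ∈ I, ∀ a : A, i • a = 0) (g : A →ₗ[R] B)
    (hg : Function.Surjective g) (d : P →ₗ[R] B) : ∃ l : P →ₗ[R] A, g ∘ₗ l = d := by
  classical
  obtain ⟨s, hs⟩ := hP.out
  let E (x : (R ⧸ I) ⊗[R] P) : (R ⧸ I) →ₗ[R] A :=
    Submodule.liftQ I (LinearMap.toSpanSingleton R A (Function.surjInv hg
      (Submodule.liftQ (I • ⊤ : Submodule R P) d (Submodule.smul_le.2 fun i hi p _ => by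
        obtain ⟨a, ha⟩ := hg (d p)
        rw [LinearMap.mem_ker, map_smul, ← ha, ← map_smul, hA i hi, map_zero])
        (TensorProduct.quotTensorEquivQuotSMul P I x))))
      (fun i hi => hA i hi _)
  let d' : ((R ⧸ I) ⊗[R] P) →ₗ[R] B :=
    Submodule.liftQ (I • ⊤ : Submodule R P) d (Submodule.smul_le.2 fun i hi p _ => by
        obtain ⟨a, ha⟩ := hg (d p)
        rw [LinearMap.mem_ker, map_smul, ← ha, ← map_smul, hA i hi, map_zero])
      ∘ₗ (TensorProduct.quotTensorEquivQuotSMul P I).toLinearMap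
  let Φ : (((R ⧸ I) ⊗[R] P) →₀ (R ⧸ I)) →ₗ[R] A := Finsupp.lsum R E
  refine ⟨Φ ∘ₗ (s.restrictScalars R) ∘ₗ (TensorProduct.mk R (R ⧸ I) P 1), ?_⟩
  have key : g ∘ₗ Φ = d' ∘ₗ (Finsupp.linearCombination (R ⧸ I) id).restrictScalars R := by
    refine Finsupp.lhom_ext fun x c => ?_
    obtain ⟨c, rfl⟩ := Ideal.Quotient.mk_surjective c
    simp only [LinearMap.comp_apply, Φ, Finsupp.lsum_single, LinearMap.coe_restrictScalars,
      Finsupp.linearCombination_single, id]
    show g (E x (Submodule.Quotient.mk c)) = d' _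
    rw [show Ideal.Quotient.mk I c • x = c • x from (IsScalarTower.algebraMap_smul (R ⧸ I) c x),
      map_smul]
    simp only [E, Submodule.liftQ_apply, LinearMap.toSpanSingleton_apply, map_smul,
      Function.surjInv_eq hg]
    rfl
  refine LinearMap.ext fun p => ?_
  have h1 := LinearMap.congr_fun key (s ((1 : R ⧸ I) ⊗ₜ p))
  simp only [LinearMap.comp_apply, LinearMap.coe_restrictScalars, TensorProduct.mk_apply] at h1 ⊢
  rw [h1, hs]
  simp only [d', LinearMap.comp_apply, LinearEquiv.coe_coe, ← map_one (Ideal.Quotient.mk I),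
    TensorProduct.quotTensorEquivQuotSMul_mk_tmul, one_smul]
  rfl

theorem projective_of_inf_eq_bot (I J : Ideal R) (hIJ : I ⊓ J = ⊥) (P : Type u) [AddCommGroup P]
    [Module R P] (hI : Module.Projective (R ⧸ I) ((R ⧸ I) ⊗[R] P))
    (hJ : Module.Projective (R ⧸ J) ((R ⧸ J) ⊗[R] P)) : Module.Projective R P := by
  let F := P →₀ R
  let π : F →ₗ[R] P := Finsupp.linearCombination R id
  have hπ : Function.Surjective π := Finsupp.linearCombination_id_surjective R P
  have hkill : ∀ (L : Ideal R) (N : Type u) [AddCommGroup N] [Module R N],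
      ∀ i ∈ L, ∀ a : N ⧸ (L • ⊤ : Submodule R N), i • a = 0 := by
    intro L N _ _ i hi a
    obtain ⟨a, rfl⟩ := Submodule.Quotient.mk_surjective _ a
    rw [← Submodule.Quotient.mk_smul, Submodule.Quotient.mk_eq_zero]
    exact Submodule.smul_mem_smul hi trivial
  let π' (L : Ideal R) : (F ⧸ (L • ⊤ : Submodule R F)) →ₗ[R] P ⧸ (L • ⊤ : Submodule R P) :=
    Submodule.mapQ _ _ π (Submodule.map_le_iff_le_comap.1 (by
      rw [Submodule.map_smul'']; exact Submodule.smul_mono le_rfl le_top))
  have hπ' : ∀ L, Function.Surjective (π' L) := fun L y => by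
    obtain ⟨y, rfl⟩ := Submodule.Quotient.mk_surjective _ y
    obtain ⟨x, rfl⟩ := hπ y
    exact ⟨Submodule.Quotient.mk x, rfl⟩
  obtain ⟨σI, hσI⟩ := exists_lift_of_projective_quot I hI (hkill I F) (π' I) (hπ' I) (Submodule.mkQ _)
  obtain ⟨σJ, hσJ⟩ := exists_lift_of_projective_quot J hJ (hkill J F) (π' J) (hπ' J) (Submodule.mkQ _)
  let qI : (F ⧸ (I • ⊤ : Submodule R F)) →ₗ[R] F ⧸ ((I ⊔ J) • ⊤ : Submodule R F) :=
    Submodule.factor (Submodule.smul_mono_left le_sup_left)
  let qJ : (F ⧸ (J • ⊤ : Submodule R F)) →ₗ[R] F ⧸ ((I ⊔ J) • ⊤ : Submodule R F) :=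
    Submodule.factor (Submodule.smul_mono_left le_sup_right)
  let KJ := Submodule.map (J • ⊤ : Submodule R F).mkQ (LinearMap.ker π)
  let qK := qJ ∘ₗ KJ.subtype
  have hd : ∀ p, qI (σI p) - qJ (σJ p) ∈ LinearMap.range qK := by
    intro p
    obtain ⟨a, ha⟩ := Submodule.Quotient.mk_surjective _ (σI p)
    obtain ⟨b, hb⟩ := Submodule.Quotient.mk_surjective _ (σJ p)
    have h1 : π a - p ∈ I • (⊤ : Submodule R P) := by
      rw [← Submodule.Quotient.eq]
      have := LinearMap.congr_fun hσI p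
      rw [LinearMap.comp_apply, ← ha] at this
      exact this
    have h2 : π b - p ∈ J • (⊤ : Submodule R P) := by
      rw [← Submodule.Quotient.eq]
      have := LinearMap.congr_fun hσJ p
      rw [LinearMap.comp_apply, ← hb] at this
      exact this
    have h3 : π (a - b) ∈ Submodule.map π ((I ⊔ J) • (⊤ : Submodule R F)) := by
      rw [Submodule.map_smul'', Submodule.map_top, LinearMap.range_eq_top.2 hπ, Submodule.sup_smul,
        map_sub, show π a - π b = (π a - p) - (π b - p) by abel]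
      exact sub_mem (Submodule.mem_sup_left h1) (Submodule.mem_sup_right h2)
    obtain ⟨c, hc, hc'⟩ := h3
    refine ⟨⟨Submodule.Quotient.mk (a - b - c), a - b - c, ?_, rfl⟩, ?_⟩
    · simp only [SetLike.mem_coe, LinearMap.mem_ker, map_sub] at hc' ⊢
      rw [hc', sub_self]
    · rw [← ha, ← hb]
      show Submodule.Quotient.mk (a - b - c) = (Submodule.Quotient.mk a : F ⧸ _) - Submodule.Quotient.mk b
      rw [← Submodule.Quotient.mk_sub, Submodule.Quotient.eq]
      simpa using neg_mem hc
  obtain ⟨e, he⟩ := exists_lift_of_projective_quot J hJ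
    (A := KJ) (fun i hi a => Subtype.ext (hkill J F i hi a.1))
    qK.rangeRestrict qK.surjective_rangeRestrict
    ((qI ∘ₗ σI - qJ ∘ₗ σJ).codRestrict (LinearMap.range qK) hd)
  let τ : P →ₗ[R] F ⧸ (J • ⊤ : Submodule R F) := σJ + KJ.subtype ∘ₗ e
  have hagree : ∀ p, qI (σI p) = qJ (τ p) := fun p => by
    have := congrArg Subtype.val (LinearMap.congr_fun he p)
    simp only [τ, LinearMap.add_apply, map_add]
    exact eq_add_of_sub_eq' this.symm
  let Φ : F →ₗ[R] (F ⧸ (I • ⊤ : Submodule R F)) × (F ⧸ (J • ⊤ : Submodule R F)) :=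
    (I • ⊤ : Submodule R F).mkQ.prod (J • ⊤ : Submodule R F).mkQ
  have hΦ : Function.Injective Φ := by
    rw [← LinearMap.ker_eq_bot, LinearMap.ker_prod, Submodule.ker_mkQ, Submodule.ker_mkQ,
      inf_smul_top_eq, hIJ, Submodule.bot_smul]
  have hrange : ∀ p, (σI p, τ p) ∈ LinearMap.range Φ := fun p => by
    obtain ⟨a, ha⟩ := Submodule.Quotient.mk_surjective _ (σI p)
    obtain ⟨b, hb⟩ := Submodule.Quotient.mk_surjective _ (τ p)
    have := hagree p
    rw [← ha, ← hb] at this
    replace this : a - b ∈ ((I ⊔ J) • ⊤ : Submodule R F) := (Submodule.Quotient.eq _).1 this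
    rw [Submodule.sup_smul] at this
    obtain ⟨i, hi, j, hj, hij⟩ := Submodule.mem_sup.1 this
    refine ⟨a - i, Prod.ext ?_ ?_⟩
    · show Submodule.Quotient.mk (a - i) = σI p
      rw [← ha, Submodule.Quotient.eq]
      simpa using neg_mem hi
    · show Submodule.Quotient.mk (a - i) = τ p
      rw [← hb, Submodule.Quotient.eq, show a - i - b = j by rw [sub_right_comm, ← hij]; abel]
      exact hj
  let σ : P →ₗ[R] F :=
    (LinearEquiv.ofInjective Φ hΦ).symm.toLinearMap ∘ₗ (σI.prod τ).codRestrict (LinearMap.range Φ) hrange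
  have hσ : ∀ p, (Submodule.Quotient.mk (σ p) : F ⧸ (I • ⊤ : Submodule R F)) = σI p ∧
      (Submodule.Quotient.mk (σ p) : F ⧸ (J • ⊤ : Submodule R F)) = τ p := fun p => by
    have := congrArg Subtype.val ((LinearEquiv.ofInjective Φ hΦ).apply_symm_apply
      ⟨(σI p, τ p), hrange p⟩)
    exact Prod.ext_iff.1 this
  let h : Module.End R P := π ∘ₗ σ - LinearMap.id
  have hhI : ∀ p, h p ∈ I • (⊤ : Submodule R P) := fun p => by
    show π (σ p) - p ∈ _
    rw [← Submodule.Quotient.eq]
    have := LinearMap.congr_fun hσI p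
    rw [LinearMap.comp_apply, ← (hσ p).1] at this
    exact this
  have hhJ : ∀ p, h p ∈ J • (⊤ : Submodule R P) := fun p => by
    show π (σ p) - p ∈ _
    rw [← Submodule.Quotient.eq]
    have h1 := LinearMap.congr_fun hσJ p
    have h2 : π' J ((e p : F ⧸ (J • ⊤ : Submodule R F))) = 0 := by
      obtain ⟨w, hw, hw'⟩ := (e p).2
      rw [← hw']
      show Submodule.Quotient.mk (π w) = 0
      rw [show π w = 0 from hw, Submodule.Quotient.mk_zero]
    have h3 := congrArg (π' J) (hσ p).2
    simp only [τ, LinearMap.add_apply, map_add, LinearMap.comp_apply, Submodule.subtype_apply, h2,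
      add_zero] at h3
    exact h3.trans h1
  have hsq : ∀ p, h (h p) = 0 := fun p => by
    refine Submodule.smul_induction_on (p := fun z => h z = 0) (hhI p) (fun i hi x _ => ?_)
      (fun a b ha hb => by rw [map_add, ha, hb, add_zero])
    rw [map_smul]
    refine Submodule.smul_induction_on (p := fun z => i • z = 0) (hhJ x) (fun j hj y _ => ?_)
      (fun a b ha hb => by rw [smul_add, ha, hb, add_zero])
    rw [smul_smul, show i * j = 0 from (Submodule.mem_bot R).1
      (hIJ ▸ ⟨I.mul_mem_right _ hi, J.mul_mem_left _ hj⟩), zero_smul]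
  refine Module.Projective.of_split (σ ∘ₗ (LinearMap.id - h)) π (LinearMap.ext fun p => ?_)
  have hx : ∀ q, π (σ q) = q + h q := fun q => by simp [h]
  simp only [LinearMap.comp_apply, LinearMap.sub_apply, LinearMap.id_apply, hx, map_sub, hsq]
  abel

end Groth.Agent.CAlgMisc1
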