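import Mathlib.LinearAlgebra.Finsupp.SumProd
import Mathlib.LinearAlgebra.Finsupp.Defs
import Mathlib.LinearAlgebra.Finsupp.Pi
import Mathlib.Algebra.Module.Projective
import Mathlib.SetTheory.Cardinal.Arithmetic
import Mathlib.RingTheory.Finiteness.Basic

/-! The Eilenberg swindle. -/

namespace Groth.Agent.CAlgMisc1

universe u

theorem swindle {R P Q : Type u} [CommRing R] [AddCommGroup P] [Module R P] [AddCommGroup Q]
    [Module R Q] {α : Type u} (e : (P × Q) ≃ₗ[R] (α →₀ R)) :
    Nonempty ((P × ((α × ℕ) →₀ R)) ≃ₗ[R] ((α × ℕ) →₀ R)) := by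
  -- `ℕ →₀ (α →₀ R)` as `(ℕ →₀ P) × (ℕ →₀ Q)`
  let E₁ : ((α × ℕ) →₀ R) ≃ₗ[R] (ℕ →₀ P) × (ℕ →₀ Q) :=
    (Finsupp.domLCongr (Equiv.prodComm α ℕ)).trans <| (Finsupp.curryLinearEquiv R).trans <|
      (Finsupp.mapRange.linearEquiv e.symm).trans <|
        { toFun := fun z => (Finsupp.mapRange Prod.fst rfl z, Finsupp.mapRange Prod.snd rfl z)
          invFun := fun z => Finsupp.mapRange (fun a => (a, 0)) rfl z.1 + Finsupp.mapRange (fun b => (0, b)) rfl z.2
          map_add' := fun a b => by ext <;> simp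
          map_smul' := fun r a => by ext <;> simp
          left_inv := fun z => by ext n <;> simp
          right_inv := fun z => by ext n <;> simp }
  let E₂ : (P × (ℕ →₀ P)) ≃ₗ[R] (ℕ →₀ P) :=
    ((Finsupp.LinearEquiv.finsuppUnique R P Unit).symm.prodCongr (LinearEquiv.refl R _)).trans <|
      (Finsupp.sumFinsuppLEquivProdFinsupp R).symm.trans
        (Finsupp.domLCongr (show Unit ⊕ ℕ ≃ ℕ from
          { toFun := Sum.elim (fun _ => 0) Nat.succ
            invFun := fun n => Nat.casesOn n (Sum.inl ()) Sum.inr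
            left_inv := fun z => by rcases z with ⟨⟩ | n <;> rfl
            right_inv := fun n => by cases n <;> rfl }))
  exact ⟨((LinearEquiv.refl R P).prodCongr E₁).trans <|
    (LinearEquiv.prodAssoc R P (ℕ →₀ P) (ℕ →₀ Q)).symm.trans <|
      (E₂.prodCongr (LinearEquiv.refl R _)).trans E₁.symm⟩

end Groth.Agent.CAlgMisc1
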